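import Groth.Agent.Etbc.H226.NFDefs
import Mathlib.RingTheory.Norm.Transitivity
import Mathlib.FieldTheory.KummerExtension
import Mathlib.LinearAlgebra.Transvection.Basic
import Mathlib.LinearAlgebra.Determinant

/-!
# The norm group of `k[X]/(X^ℓ - b)`

For a field `k`, a prime `ℓ` and `b : k`, `normGroup ℓ b` is the subgroup of `kˣ` of norms of units of
`k[X]/(X^ℓ - b)`.

* `mem_normGroup_iff`: it is the set of units which are norms;
* `C3pow`: it contains the `ℓ`-th powers;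
* `C3top`: if `b` is a nonzero `ℓ`-th power it is everything (`ζ_ℓ ∈ k`);
* `C3symm`: `a ∈ normGroup ℓ b ↔ b ∈ normGroup ℓ a` (`ζ_ℓ ∈ k`);
* `C3map`: compatibility with extensions of the field;
* `mem_normGroup_iff_of_field`, `normGroup_eq_range`: if `L = k(y)`, `y^ℓ = b`, `[L : k] = ℓ` it is the group of norms from `L`;
* `hilbert90`: Hilbert 90 for an automorphism of finite order of a field.
-/

set_option autoImplicit false
open Polynomial

namespace Groth.Agent.Etbc.H214.NormGroup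

open Groth.Agent.Etbc.H226.NFDefs

variable {k : Type*} [Field k] {ℓ : ℕ}

theorem monic (hℓ : ℓ ≠ 0) (b : k) : (X ^ ℓ - C b : k[X]).Monic := monic_X_pow_sub_C b hℓ

theorem finite (hℓ : ℓ ≠ 0) (b : k) : Module.Finite k (AdjoinRoot (X ^ ℓ - C b : k[X])) :=
  (monic hℓ b).finite_adjoinRoot

theorem finrank_eq (hℓ : ℓ ≠ 0) (b : k) :
    Module.finrank k (AdjoinRoot (X ^ ℓ - C b : k[X])) = ℓ := by
  rw [(AdjoinRoot.powerBasis' (monic hℓ b)).finrank, AdjoinRoot.powerBasis'_dim, natDegree_X_pow_sub_C]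

theorem root_pow (b : k) :
    (AdjoinRoot.root (X ^ ℓ - C b : k[X])) ^ ℓ = algebraMap k _ b := by
  have h := AdjoinRoot.eval₂_root (X ^ ℓ - C b : k[X])
  rw [eval₂_sub, eval₂_pow, eval₂_X, eval₂_C, sub_eq_zero] at h
  exact h

/-- An element with nonzero norm is a unit. -/
theorem isUnit_of_norm_ne_zero (hℓ : ℓ ≠ 0) (b : k) (y : AdjoinRoot (X ^ ℓ - C b : k[X]))
    (hy : Algebra.norm k y ≠ 0) : IsUnit y := by
  have := finite hℓ b
  rw [Algebra.norm_apply] at hy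
  have h1 : IsUnit (LinearMap.det (Algebra.lmul k _ y)) := isUnit_iff_ne_zero.2 hy
  rw [← LinearMap.isUnit_iff_isUnit_det] at h1
  exact Algebra.lmul_isUnit_iff.1 h1

theorem mem_normGroup_iff (hℓ : ℓ ≠ 0) (b : k) (a : kˣ) :
    a ∈ normGroup ℓ b ↔ ∃ y : AdjoinRoot (X ^ ℓ - C b : k[X]), Algebra.norm k y = a := by
  constructor
  · rintro ⟨y, rfl⟩
    exact ⟨y, rfl⟩
  · rintro ⟨y, hy⟩
    obtain ⟨u, rfl⟩ := isUnit_of_norm_ne_zero hℓ b y (hy ▸ a.ne_zero)
    exact ⟨u, Units.ext hy⟩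

/-- `ℓ`-th powers are norms. -/
theorem C3pow (hℓ : ℓ ≠ 0) (b : k) (x : kˣ) : x ^ ℓ ∈ normGroup ℓ b := by
  have := finite hℓ b
  refine (mem_normGroup_iff hℓ b _).2 ⟨algebraMap k _ x, ?_⟩
  rw [Algebra.norm_algebraMap, finrank_eq hℓ, Units.val_pow_eq_pow_val]

/-! ### `b` an `ℓ`-th power -/

/-- the idempotent `(1/ℓ) ∑ c^{-j} x^j` -/
noncomputable def idem (ℓ : ℕ) (c : k) : AdjoinRoot (X ^ ℓ - C (c ^ ℓ) : k[X]) :=
  (ℓ : k)⁻¹ • ∑ j ∈ Finset.range ℓ, (c⁻¹ • AdjoinRoot.root (X ^ ℓ - C (c ^ ℓ) : k[X])) ^ j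

/-- evaluation at `c` -/
noncomputable def ev (ℓ : ℕ) (c : k) : AdjoinRoot (X ^ ℓ - C (c ^ ℓ) : k[X]) →ₐ[k] k :=
  AdjoinRoot.liftAlgHom _ (AlgHom.id k k) c (by simp)

theorem ev_root (c : k) : ev ℓ c (AdjoinRoot.root _) = c := by simp [ev]

theorem ev_idem (c : k) (hc : c ≠ 0) (hℓ : (ℓ : k) ≠ 0) : ev ℓ c (idem ℓ c) = 1 := by
  rw [idem, map_smul, map_sum]
  simp_rw [map_pow, map_smul, ev_root, smul_eq_mul, inv_mul_cancel₀ hc, one_pow]
  rw [Finset.sum_const, Finset.card_range, nsmul_one, inv_mul_cancel₀ hℓ]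

theorem root_mul_idem (c : k) (hc : c ≠ 0) :
    AdjoinRoot.root _ * idem ℓ c = c • idem ℓ c := by
  set y := c⁻¹ • AdjoinRoot.root (X ^ ℓ - C (c ^ ℓ) : k[X]) with hy
  have hx : AdjoinRoot.root (X ^ ℓ - C (c ^ ℓ) : k[X]) = c • y := by
    rw [hy, smul_smul, mul_inv_cancel₀ hc, one_smul]
  have hyl : y ^ ℓ = 1 := by
    rw [hy, smul_pow, root_pow, Algebra.algebraMap_eq_smul_one, smul_smul, inv_pow,
      inv_mul_cancel₀ (pow_ne_zero _ hc), one_smul]
  have h1 : y * ∑ j ∈ Finset.range ℓ, y ^ j = ∑ j ∈ Finset.range ℓ, y ^ j := by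
    have h2 := Finset.sum_range_succ (fun j => y ^ j) ℓ
    rw [Finset.sum_range_succ', pow_zero, hyl, add_left_inj] at h2
    rw [Finset.mul_sum, ← h2]
    exact Finset.sum_congr rfl fun j _ => (pow_succ' y j).symm
  rw [hx, idem, ← hy, mul_smul_comm, smul_mul_assoc, h1, smul_comm]

theorem mul_idem (c : k) (hc : c ≠ 0) (f : AdjoinRoot (X ^ ℓ - C (c ^ ℓ) : k[X])) :
    f * idem ℓ c = ev ℓ c f • idem ℓ c := by
  induction f using AdjoinRoot.induction_on with
  | ih p =>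
    induction p using Polynomial.induction_on' with
    | add p q hp hq => rw [map_add, map_add, add_mul, add_smul, hp, hq]
    | monomial n a =>
      have h0 : AdjoinRoot.mk (X ^ ℓ - C (c ^ ℓ) : k[X]) (monomial n a) =
          a • AdjoinRoot.root (X ^ ℓ - C (c ^ ℓ) : k[X]) ^ n := by
        rw [← C_mul_X_pow_eq_monomial, map_mul (AdjoinRoot.mk _), AdjoinRoot.mk_C,
          map_pow (AdjoinRoot.mk _), AdjoinRoot.mk_X, Algebra.smul_def]
        rfl
      rw [h0, map_smul, map_pow (ev ℓ c), ev_root, smul_mul_assoc]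
      clear h0
      have h2 : AdjoinRoot.root (X ^ ℓ - C (c ^ ℓ) : k[X]) ^ n * idem ℓ c = c ^ n • idem ℓ c := by
        induction n with
        | zero => simp
        | succ n ih =>
          rw [pow_succ', mul_assoc, ih, mul_smul_comm, root_mul_idem c hc, smul_smul, ← pow_succ]
      rw [h2, smul_smul, smul_eq_mul]

theorem norm_one_add_idem (hℓ : ℓ ≠ 0) (hℓ' : (ℓ : k) ≠ 0) (c : k) (hc : c ≠ 0) (a : k) :
    Algebra.norm k (1 + (a - 1) • idem ℓ c) = a := by
  have := finite hℓ (c ^ ℓ)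
  rw [Algebra.norm_apply]
  have h1 : Algebra.lmul k _ (1 + (a - 1) • idem ℓ c) =
      LinearMap.transvection (ev ℓ c).toLinearMap ((a - 1) • idem ℓ c) := by
    ext f
    rw [LinearMap.transvection.apply, Algebra.coe_lmul_eq_mul, LinearMap.mul_apply', add_mul, one_mul,
      smul_mul_assoc, mul_comm (idem ℓ c) f, mul_idem c hc, smul_comm]
    rfl
  rw [h1, LinearMap.transvection.det, map_smul]
  have h2 : (ev ℓ c).toLinearMap (idem ℓ c) = 1 := ev_idem c hc hℓ'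
  rw [h2, smul_eq_mul, mul_one, add_sub_cancel]

/-- If `b` is an `ℓ`-th power then everything is a norm. -/
theorem C3top [Fact ℓ.Prime] (hζ : ∃ ζ : k, IsPrimitiveRoot ζ ℓ) (b : kˣ) :
    normGroup ℓ ((b : k) ^ ℓ) = ⊤ := by
  obtain ⟨ζ, hζ⟩ := hζ
  have hℓ : ℓ ≠ 0 := (Fact.out : ℓ.Prime).ne_zero
  have hℓ' : (ℓ : k) ≠ 0 := by
    have : NeZero ℓ := ⟨hℓ⟩
    exact (hζ.neZero').ne
  rw [eq_top_iff]
  intro a _
  exact (mem_normGroup_iff hℓ _ a).2 ⟨_, norm_one_add_idem hℓ hℓ' (b : k) b.ne_zero a⟩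

/-! ### Cyclic extensions of fields -/

section cyclic

variable {L : Type*} [Field L] [Algebra k L]

/-- The norm of a cyclic extension is the product of the conjugates under a generator. -/
theorem norm_eq_prod [FiniteDimensional k L] [IsGalois k L] (σ : Gal(L/k))
    (hσ : ∀ τ : Gal(L/k), τ ∈ Subgroup.zpowers σ) (x : L) :
    algebraMap k L (Algebra.norm k x) = ∏ j ∈ Finset.range (Module.finrank k L), (σ ^ j) x := by
  classical
  rw [Algebra.norm_eq_prod_automorphisms, ← IsGalois.card_aut_eq_finrank k L,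
    ← orderOf_eq_card_of_forall_mem_zpowers hσ, ← IsCyclic.image_range_orderOf hσ,
    Finset.prod_image]
  intro i hi j hj hij
  exact pow_injOn_Iio_orderOf (by simpa using hi) (by simpa using hj) hij

/-- In a Galois extension of prime degree each nontrivial automorphism is a generator. -/
theorem mem_zpowers_of_prime [FiniteDimensional k L] [IsGalois k L] [Fact ℓ.Prime]
    (hdeg : Module.finrank k L = ℓ) (σ : Gal(L/k)) (hσ : σ ≠ 1) (τ : Gal(L/k)) :
    τ ∈ Subgroup.zpowers σ := by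
  have h : Nat.card Gal(L/k) = ℓ := by rw [IsGalois.card_aut_eq_finrank, hdeg]
  exact mem_zpowers_of_prime_card h hσ

/-- The operator `y σ` on `L`. -/
noncomputable def tw (y : L) (σ : Gal(L/k)) : Module.End k L :=
  Algebra.lmul k L y * (σ : L →ₐ[k] L).toLinearMap

theorem tw_apply (y : L) (σ : Gal(L/k)) (v : L) : tw y σ v = y * σ v := rfl

theorem tw_pow_apply (y : L) (σ : Gal(L/k)) (j : ℕ) (v : L) :
    (tw y σ ^ j) v = (∏ i ∈ Finset.range j, (σ ^ i) y) * (σ ^ j) v := by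
  induction j generalizing v with
  | zero => simp
  | succ j ih =>
    rw [pow_succ, Module.End.mul_apply, ih, tw_apply, map_mul, ← mul_assoc, ← Finset.prod_range_succ]
    rfl

/-- Hilbert 90 for a field automorphism `σ` with `σ^n = 1` and `1, σ, …, σ^(n-1)` distinct. -/
theorem hilbert90_aux (σ : L ≃+* L) (n : ℕ) (hn : 0 < n) (h1 : σ ^ n = 1)
    (hinj : Function.Injective fun i : Fin n => ((σ ^ (i : ℕ) : L ≃+* L) : L →* L)) (x : L)
    (hx : ∏ j ∈ Finset.range n, (σ ^ j) x = 1) : ∃ z : L, z ≠ 0 ∧ x * σ z = z := by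
  classical
  have hli := (linearIndependent_monoidHom L L).comp _ hinj
  let c : ℕ → L := fun i => ∏ j ∈ Finset.range i, (σ ^ j) x
  obtain ⟨y, hy⟩ : ∃ y : L, ∑ i : Fin n, c i * (σ ^ (i : ℕ)) y ≠ 0 := by
    by_contra! hcon
    have h2 := Fintype.linearIndependent_iff.1 hli (fun i => c i) (by
      funext y
      simpa using hcon y) ⟨0, hn⟩
    simp [c] at h2
  rw [Fin.sum_univ_eq_sum_range (fun i => c i * (σ ^ i) y) n] at hy
  refine ⟨_, hy, ?_⟩
  have h2 : ∀ i, x * σ (c i) = c (i + 1) := by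
    intro i
    simp only [c]
    rw [Finset.prod_range_succ', map_prod, mul_comm]
    refine congrArg₂ _ (Finset.prod_congr rfl fun j _ => ?_) (by simp)
    rw [pow_succ']
    rfl
  have h3 : x * σ (∑ i ∈ Finset.range n, c i * (σ ^ i) y) =
      ∑ i ∈ Finset.range n, c (i + 1) * (σ ^ (i + 1)) y := by
    rw [map_sum, Finset.mul_sum]
    refine Finset.sum_congr rfl fun i _ => ?_
    rw [map_mul, ← mul_assoc, h2, pow_succ' σ i]
    rfl
  rw [h3]
  have h4 := Finset.sum_range_succ (fun i => c i * (σ ^ i) y) n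
  rw [Finset.sum_range_succ'] at h4
  have h5 : c 0 * (σ ^ 0) y = c n * (σ ^ n) y := by
    have : c n = 1 := hx
    rw [this, h1]
    simp [c]
  rw [h5, add_left_inj] at h4
  exact h4

/-- **Hilbert 90** for a cyclic extension. -/
theorem hilbert90 [FiniteDimensional k L] [IsGalois k L] (σ : Gal(L/k))
    (hσ : ∀ τ : Gal(L/k), τ ∈ Subgroup.zpowers σ) (x : L) (hx : Algebra.norm k x = 1) :
    ∃ z : L, z ≠ 0 ∧ x * σ z = z := by
  have hc : orderOf σ = Module.finrank k L := by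
    rw [orderOf_eq_card_of_forall_mem_zpowers hσ, IsGalois.card_aut_eq_finrank]
  let s : Gal(L/k) →* (L ≃+* L) :=
    { toFun := fun τ => τ.toRingEquiv, map_one' := rfl, map_mul' := fun _ _ => rfl }
  have hs : ∀ (j : ℕ) (v : L), (s σ ^ j) v = (σ ^ j) v := fun j v => by
    rw [← map_pow]
    rfl
  refine hilbert90_aux (s σ) (orderOf σ) (orderOf_pos σ) ?_ ?_ x ?_
  · rw [← map_pow, pow_orderOf_eq_one, map_one]
  · intro i j hij
    have h2 : σ ^ (i : ℕ) = σ ^ (j : ℕ) := by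
      ext v
      rw [← hs, ← hs]
      exact DFunLike.congr_fun hij v
    exact Fin.ext (pow_injOn_Iio_orderOf (by simp) (by simp) h2)
  · simp_rw [hs]
    rw [hc, ← norm_eq_prod σ hσ, hx, map_one]

end cyclic

/-! ### Symmetry of the norm condition -/

section symm

theorem irreducible [Fact ℓ.Prime] {a : k} (ha : ∀ c : k, c ^ ℓ ≠ a) :
    Irreducible (X ^ ℓ - C a : k[X]) :=
  X_pow_sub_C_irreducible_of_prime Fact.out ha

/-- The automorphism of `k[X]/(X^ℓ - a)` multiplying the root by the `ℓ`-th root of unity `ζ`. -/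
theorem exists_aut [Fact ℓ.Prime] {a ζ : k} (hζ : IsPrimitiveRoot ζ ℓ)
    [Fact (Irreducible (X ^ ℓ - C a : k[X]))] :
    ∃ σ : Gal((AdjoinRoot (X ^ ℓ - C a : k[X]))/k), σ (AdjoinRoot.root _) = ζ • AdjoinRoot.root _ := by
  have : NeZero ℓ := ⟨(Fact.out : ℓ.Prime).ne_zero⟩
  let η : rootsOfUnity ℓ k := hζ.toRootsOfUnity
  exact ⟨autAdjoinRootXPowSubC ℓ a η, autAdjoinRootXPowSubC_root (a := a) η⟩

theorem isGalois [Fact ℓ.Prime] {a ζ : k} (hζ : IsPrimitiveRoot ζ ℓ) (ha : ∀ c : k, c ^ ℓ ≠ a)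
    [Fact (Irreducible (X ^ ℓ - C a : k[X]))] :
    IsGalois k (AdjoinRoot (X ^ ℓ - C a : k[X])) := by
  have hne : (primitiveRoots ℓ k).Nonempty :=
    ⟨ζ, (mem_primitiveRoots (Fact.out : ℓ.Prime).pos).2 hζ⟩
  have := isSplittingField_AdjoinRoot_X_pow_sub_C hne (irreducible ha)
  exact isGalois_of_isSplittingField_X_pow_sub_C hne (irreducible ha) _

theorem root_ne_zero [Fact ℓ.Prime] {a : k} (ha : ∀ c : k, c ^ ℓ ≠ a)
    [Fact (Irreducible (X ^ ℓ - C a : k[X]))] : AdjoinRoot.root (X ^ ℓ - C a : k[X]) ≠ 0 := by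
  intro h
  have h1 := root_pow (ℓ := ℓ) a
  have hℓ := (Fact.out : ℓ.Prime).ne_zero
  rw [h, zero_pow hℓ] at h1
  have h2 : a = 0 := by
    rw [← map_zero (algebraMap k (AdjoinRoot (X ^ ℓ - C a : k[X])))] at h1
    exact ((algebraMap k (AdjoinRoot (X ^ ℓ - C a : k[X]))).injective h1).symm
  exact ha 0 (by rw [h2, zero_pow hℓ])

/-- The data used in the proof of the symmetry: `k[X]/(X^ℓ - a)` as a cyclic field extension. -/
theorem norm_eq_prod_adjoinRoot [Fact ℓ.Prime] {a ζ : k} (hζ : IsPrimitiveRoot ζ ℓ)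
    (ha : ∀ c : k, c ^ ℓ ≠ a) [Fact (Irreducible (X ^ ℓ - C a : k[X]))]
    (σ : Gal((AdjoinRoot (X ^ ℓ - C a : k[X]))/k))
    (hσ : σ (AdjoinRoot.root _) = ζ • AdjoinRoot.root _) (x : AdjoinRoot (X ^ ℓ - C a : k[X])) :
    algebraMap k _ (Algebra.norm k x) = ∏ j ∈ Finset.range ℓ, (σ ^ j) x ∧ σ ^ ℓ = 1 := by
  have hℓ := (Fact.out : ℓ.Prime).ne_zero
  have := finite hℓ a
  have := isGalois hζ ha
  have hne : σ ≠ 1 := by
    rintro rfl
    have h1 : AdjoinRoot.root (X ^ ℓ - C a : k[X]) = ζ • AdjoinRoot.root _ := hσ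
    have h2 : (1 - ζ) • AdjoinRoot.root (X ^ ℓ - C a : k[X]) = 0 := by
      rw [sub_smul, one_smul, ← h1, sub_self]
    rcases smul_eq_zero.1 h2 with h3 | h3
    · exact hζ.ne_one (Fact.out : ℓ.Prime).one_lt (sub_eq_zero.1 h3).symm
    · exact root_ne_zero ha h3
  have hz := mem_zpowers_of_prime (finrank_eq hℓ a) σ hne
  refine ⟨by rw [norm_eq_prod σ hz, finrank_eq hℓ], ?_⟩
  have h : orderOf σ = ℓ := by
    rw [orderOf_eq_card_of_forall_mem_zpowers hz, IsGalois.card_aut_eq_finrank, finrank_eq hℓ]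
  have h2 := pow_orderOf_eq_one σ
  rwa [h] at h2

/-- One direction of the symmetry, for `a` and `b` which are not `ℓ`-th powers. -/
theorem symm_aux [Fact ℓ.Prime] {a b ζ : k} (hζ : IsPrimitiveRoot ζ ℓ) (ha : ∀ c : k, c ^ ℓ ≠ a)
    (hb : ∀ c : k, c ^ ℓ ≠ b) (y : AdjoinRoot (X ^ ℓ - C b : k[X])) (hy : Algebra.norm k y = a) :
    ∃ z : AdjoinRoot (X ^ ℓ - C a : k[X]), Algebra.norm k z = b := by
  have hℓ := (Fact.out : ℓ.Prime).ne_zero
  have : Fact (Irreducible (X ^ ℓ - C a : k[X])) := ⟨irreducible ha⟩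
  have : Fact (Irreducible (X ^ ℓ - C b : k[X])) := ⟨irreducible hb⟩
  have := finite hℓ a
  have := finite hℓ b
  have hζ0 : ζ ≠ 0 := hζ.ne_zero hℓ
  obtain ⟨σb, hσb⟩ := exists_aut (a := b) hζ
  obtain ⟨σa, hσa⟩ := exists_aut (a := a) hζ.inv
  let Xo : Module.End k (AdjoinRoot (X ^ ℓ - C b : k[X])) := tw y σb
  have hXl : Xo ^ ℓ = algebraMap k _ a := by
    ext v
    rw [tw_pow_apply, ← (norm_eq_prod_adjoinRoot hζ hb σb hσb y).1,
      (norm_eq_prod_adjoinRoot hζ hb σb hσb y).2, hy, Module.algebraMap_end_apply, Algebra.smul_def]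
    rfl
  let ψ : AdjoinRoot (X ^ ℓ - C a : k[X]) →ₐ[k] Module.End k (AdjoinRoot (X ^ ℓ - C b : k[X])) :=
    Ideal.Quotient.liftₐ (Ideal.span {(X ^ ℓ - C a : k[X])}) (aeval Xo) (by
      intro f hf
      obtain ⟨g, rfl⟩ := Ideal.mem_span_singleton'.1 hf
      rw [map_mul, map_sub, map_pow, aeval_X, aeval_C, hXl, sub_self, mul_zero])
  have hψ : ψ (AdjoinRoot.root _) = Xo := by
    change (aeval Xo) X = Xo
    rw [aeval_X]
  -- the isomorphism `θ`
  let θ : AdjoinRoot (X ^ ℓ - C a : k[X]) →ₗ[k] AdjoinRoot (X ^ ℓ - C b : k[X]) :=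
    (LinearMap.applyₗ (1 : AdjoinRoot (X ^ ℓ - C b : k[X]))).comp ψ.toLinearMap
  have hθ : ∀ g, θ g = ψ g 1 := fun g => rfl
  have hinj : Function.Injective θ := by
    rw [injective_iff_map_eq_zero]
    intro g hg
    by_contra hne
    have h1 : ψ g⁻¹ * ψ g = 1 := by rw [← map_mul, inv_mul_cancel₀ hne, map_one]
    have h2 := congrArg (fun e : Module.End k (AdjoinRoot (X ^ ℓ - C b : k[X])) => e 1) h1
    simp only [Module.End.mul_apply, Module.End.one_apply] at h2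
    rw [← hθ, hg, map_zero] at h2
    exact zero_ne_one h2
  have hsurj : Function.Surjective θ :=
    (LinearMap.injective_iff_surjective_of_finrank_eq_finrank (by
      rw [finrank_eq hℓ, finrank_eq hℓ])).1 hinj
  obtain ⟨z, hz⟩ := hsurj (AdjoinRoot.root _)
  let Y : Module.End k (AdjoinRoot (X ^ ℓ - C b : k[X])) := Algebra.lmul k _ (AdjoinRoot.root _)
  have hYX : Y * Xo = (ζ⁻¹ • Xo) * Y := by
    ext v
    change AdjoinRoot.root _ * (y * σb v) = ζ⁻¹ • (y * σb (AdjoinRoot.root _ * v))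
    rw [map_mul, hσb, smul_mul_assoc, mul_smul_comm, smul_smul, inv_mul_cancel₀ hζ0, one_smul]
    ring
  have hYψ : ∀ g, Y * ψ g = ψ (σa g) * Y := by
    intro g
    have hg : g ∈ Algebra.adjoin k {AdjoinRoot.root (X ^ ℓ - C a : k[X])} := by
      rw [AdjoinRoot.adjoinRoot_eq_top]
      trivial
    induction hg using Algebra.adjoin_induction with
    | mem g hg =>
      rw [Set.mem_singleton_iff.1 hg, hσa, hψ, map_smul, hψ]
      exact hYX
    | algebraMap r =>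
      rw [AlgEquiv.commutes, AlgHom.commutes, Algebra.commutes]
    | add g h _ _ hg hh => rw [map_add, map_add, map_add, mul_add, add_mul, hg, hh]
    | mul g h _ _ hg hh =>
      rw [map_mul, map_mul, map_mul, ← mul_assoc, hg, mul_assoc, hh, mul_assoc]
  have hθT : ∀ g, θ (tw z σa g) = Y (θ g) := by
    intro g
    have h1 : θ (tw z σa g) = (ψ (σa g) * ψ z) 1 := by
      rw [hθ, tw_apply, mul_comm, map_mul]
    rw [h1, Module.End.mul_apply, ← hθ z, hz, hθ]
    have h2 := congrArg (fun e : Module.End k (AdjoinRoot (X ^ ℓ - C b : k[X])) => e 1) (hYψ g)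
    simp only [Module.End.mul_apply] at h2
    rw [h2]
    exact congrArg _ (mul_one (AdjoinRoot.root (X ^ ℓ - C b : k[X]))).symm
  have hθTn : ∀ (n : ℕ) g, θ ((tw z σa ^ n) g) = (Y ^ n) (θ g) := by
    intro n
    induction n with
    | zero => intro g; rfl
    | succ n ih =>
      intro g
      rw [pow_succ, pow_succ, Module.End.mul_apply, Module.End.mul_apply, ih, hθT]
  refine ⟨z, ?_⟩
  have h1 := hθTn ℓ 1
  rw [tw_pow_apply, ← (norm_eq_prod_adjoinRoot hζ.inv ha σa hσa z).1, map_one, mul_one] at h1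
  have h2 : (Y ^ ℓ) (θ 1) = algebraMap k _ b := by
    have h3 : Y ^ ℓ = Algebra.lmul k _ (algebraMap k _ b) := by
      rw [← root_pow, map_pow]
    have h5 : θ 1 = 1 := by
      rw [hθ, map_one ψ]
      rfl
    rw [h3, h5]
    exact mul_one (algebraMap k (AdjoinRoot (X ^ ℓ - C b : k[X])) b)
  have h4 : θ (algebraMap k _ (Algebra.norm k z)) = algebraMap k _ (Algebra.norm k z) := by
    rw [hθ, AlgHom.commutes, Module.algebraMap_end_apply, Algebra.algebraMap_eq_smul_one]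
  rw [h2, h4] at h1
  exact (algebraMap k (AdjoinRoot (X ^ ℓ - C b : k[X]))).injective h1

/-- **Symmetry** of the norm condition. -/
theorem C3symm [Fact ℓ.Prime] (hζ : ∃ ζ : k, IsPrimitiveRoot ζ ℓ) (a b : kˣ) :
    a ∈ normGroup ℓ (b : k) ↔ b ∈ normGroup ℓ (a : k) := by
  have hℓ := (Fact.out : ℓ.Prime).ne_zero
  have key : ∀ a b : kˣ, a ∈ normGroup ℓ (b : k) → b ∈ normGroup ℓ (a : k) := by
    intro a b hab
    by_cases ha : ∃ c : k, c ^ ℓ = a
    · obtain ⟨c, hc⟩ := ha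
      have hc0 : c ≠ 0 := by
        rintro rfl
        rw [zero_pow hℓ] at hc
        exact a.ne_zero hc.symm
      rw [← hc]
      have := C3top (ℓ := ℓ) hζ (Units.mk0 c hc0)
      rw [Units.val_mk0] at this
      rw [this]
      trivial
    by_cases hb : ∃ c : k, c ^ ℓ = b
    · obtain ⟨c, hc⟩ := hb
      have hc0 : c ≠ 0 := by
        rintro rfl
        rw [zero_pow hℓ] at hc
        exact b.ne_zero hc.symm
      have h1 : b = (Units.mk0 c hc0) ^ ℓ := Units.ext hc.symm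
      rw [h1]
      exact C3pow hℓ _ _
    push Not at ha hb
    obtain ⟨ζ, hζ⟩ := hζ
    rw [mem_normGroup_iff hℓ] at hab ⊢
    obtain ⟨y, hy⟩ := hab
    exact symm_aux hζ ha hb y hy
  exact ⟨key a b, key b a⟩

/-- Multiplicativity of the norm condition in `b`. -/
theorem C3mul [Fact ℓ.Prime] (hζ : ∃ ζ : k, IsPrimitiveRoot ζ ℓ) (a b b' : kˣ)
    (h : a ∈ normGroup ℓ (b : k)) (h' : a ∈ normGroup ℓ (b' : k)) :
    a ∈ normGroup ℓ ((b * b' : kˣ) : k) := by
  rw [C3symm hζ] at h h' ⊢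
  exact mul_mem h h'

theorem C3inv [Fact ℓ.Prime] (hζ : ∃ ζ : k, IsPrimitiveRoot ζ ℓ) (a b : kˣ)
    (h : a ∈ normGroup ℓ (b : k)) : a ∈ normGroup ℓ ((b⁻¹ : kˣ) : k) := by
  rw [C3symm hζ] at h ⊢
  exact inv_mem h

/-- The norm group depends only on `b` modulo `ℓ`-th powers. -/
theorem C3mul_pow [Fact ℓ.Prime] (hζ : ∃ ζ : k, IsPrimitiveRoot ζ ℓ) (b c : kˣ) :
    normGroup ℓ ((b * c ^ ℓ : kˣ) : k) = normGroup ℓ (b : k) := by
  ext a
  have hc : c ^ ℓ ∈ normGroup ℓ (a : k) := C3pow (Fact.out : ℓ.Prime).ne_zero _ c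
  rw [C3symm hζ, C3symm hζ a b]
  exact ⟨fun h => by simpa using mul_mem h (inv_mem hc), fun h => mul_mem h hc⟩

end symm

/-! ### Change of fields -/

section map

open scoped TensorProduct

/-- The norm commutes with base change of the field. -/
theorem norm_one_tmul {k₁ A : Type*} [Field k₁] [Algebra k k₁] [CommRing A] [Algebra k A]
    [Module.Finite k A] (y : A) :
    Algebra.norm k₁ ((1 : k₁) ⊗ₜ[k] y) = algebraMap k k₁ (Algebra.norm k y) := by
  rw [Algebra.norm_apply, Algebra.norm_apply, ← LinearMap.det_baseChange]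
  congr 1
  ext v
  simp

theorem C3map_algebra [Fact ℓ.Prime] {k₁ : Type*} [Field k₁] [Algebra k k₁] (a : kˣ) (b : k)
    (h : a ∈ normGroup ℓ b) :
    Units.map (algebraMap k k₁ : k →* k₁) a ∈ normGroup ℓ (algebraMap k k₁ b) := by
  have hℓ := (Fact.out : ℓ.Prime).ne_zero
  rw [mem_normGroup_iff hℓ] at h ⊢
  obtain ⟨y, hy⟩ := h
  have := finite hℓ b
  have := finite hℓ (algebraMap k k₁ b)
  let A := AdjoinRoot (X ^ ℓ - C b : k[X])
  let A₁ := AdjoinRoot (X ^ ℓ - C (algebraMap k k₁ b) : k₁[X])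
  let g : A →ₐ[k] A₁ := AdjoinRoot.liftAlgHom _ (Algebra.ofId k A₁) (AdjoinRoot.root _) (by
    rw [eval₂_sub, eval₂_pow, eval₂_X, eval₂_C, root_pow, sub_eq_zero]
    exact (IsScalarTower.algebraMap_apply k k₁ A₁ b).symm)
  let Φ : k₁ ⊗[k] A →ₐ[k₁] A₁ := Algebra.TensorProduct.lift (Algebra.ofId k₁ A₁) g
    (fun _ _ => Commute.all _ _)
  have hΦ : ∀ x : A, Φ (1 ⊗ₜ x) = g x := fun x => by
    simp [Φ]
  have hsurj : Function.Surjective Φ := by
    rw [← AlgHom.range_eq_top, eq_top_iff, ← AdjoinRoot.adjoinRoot_eq_top]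
    refine Algebra.adjoin_le ?_
    rintro _ rfl
    exact ⟨1 ⊗ₜ AdjoinRoot.root _, by
      rw [AlgHom.toRingHom_eq_coe, RingHom.coe_coe, hΦ]
      exact AdjoinRoot.liftAlgHom_root _ _ _ _⟩
  have hfin : Module.finrank k₁ (k₁ ⊗[k] A) = Module.finrank k₁ A₁ := by
    rw [Module.finrank_baseChange, finrank_eq hℓ, finrank_eq hℓ]
  have hinj : Function.Injective Φ :=
    (LinearMap.injective_iff_surjective_of_finrank_eq_finrank (f := Φ.toLinearMap) hfin).2 hsurj
  let e : (k₁ ⊗[k] A) ≃ₐ[k₁] A₁ := AlgEquiv.ofBijective Φ ⟨hinj, hsurj⟩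
  refine ⟨g y, ?_⟩
  have h1 : e (1 ⊗ₜ y) = g y := hΦ y
  rw [← h1, Algebra.norm_eq_of_algEquiv, norm_one_tmul, hy]
  rfl

/-- Compatibility of the norm groups with ring homomorphisms of fields. -/
theorem C3map [Fact ℓ.Prime] {k₁ : Type*} [Field k₁] (f : k →+* k₁) (a : kˣ) (b : k)
    (h : a ∈ normGroup ℓ b) : Units.map (f : k →* k₁) a ∈ normGroup ℓ (f b) := by
  let _ := f.toAlgebra
  exact C3map_algebra a b h

/-- If `L/k` has degree `ℓ` and `y ∈ L`, `y^ℓ = b`, `y ∉ k`, then `k[X]/(X^ℓ - b) ≃ L`. -/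
theorem exists_algEquiv [Fact ℓ.Prime] {L : Type*} [Field L] [Algebra k L]
    (hdeg : Module.finrank k L = ℓ) (b : k) (hb : ∀ c : k, c ^ ℓ ≠ b) (y : L)
    (hy : y ^ ℓ = algebraMap k L b) :
    ∃ e : AdjoinRoot (X ^ ℓ - C b : k[X]) ≃ₐ[k] L, e (AdjoinRoot.root _) = y := by
  have hℓ := (Fact.out : ℓ.Prime).ne_zero
  have : Fact (Irreducible (X ^ ℓ - C b : k[X])) := ⟨irreducible hb⟩
  have := finite hℓ b
  have : FiniteDimensional k L := FiniteDimensional.of_finrank_pos (by omega)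
  have h0 : (X ^ ℓ - C b : k[X]).eval₂ (Algebra.ofId k L) y = 0 := by
    rw [eval₂_sub, eval₂_pow, eval₂_X, eval₂_C, hy, sub_eq_zero]
    rfl
  let g : AdjoinRoot (X ^ ℓ - C b : k[X]) →ₐ[k] L :=
    AdjoinRoot.liftAlgHom _ (Algebra.ofId k L) y h0
  have hinj : Function.Injective g := g.toRingHom.injective
  have hsurj : Function.Surjective g :=
    (LinearMap.injective_iff_surjective_of_finrank_eq_finrank (f := g.toLinearMap)
      (by rw [finrank_eq hℓ, hdeg])).1 hinj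
  exact ⟨AlgEquiv.ofBijective g ⟨hinj, hsurj⟩,
    AdjoinRoot.liftAlgHom_root (X ^ ℓ - C b : k[X]) (Algebra.ofId k L) y h0⟩

/-- If `L = k(y)`, `y^ℓ = b`, has degree `ℓ` over `k` then the norm group of `b` is the group of norms from `L`. -/
theorem normGroup_eq_range [Fact ℓ.Prime] {L : Type*} [Field L] [Algebra k L]
    (hdeg : Module.finrank k L = ℓ) (b : k) (hb : ∀ c : k, c ^ ℓ ≠ b) (y : L)
    (hy : y ^ ℓ = algebraMap k L b) :
    normGroup ℓ b = (Units.map (Algebra.norm k : L →* k)).range := by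
  have hℓ := (Fact.out : ℓ.Prime).ne_zero
  obtain ⟨e, -⟩ := exists_algEquiv hdeg b hb y hy
  ext a
  rw [mem_normGroup_iff hℓ]
  constructor
  · rintro ⟨x, hx⟩
    have h1 : Algebra.norm k (e x) = a := by rw [Algebra.norm_eq_of_algEquiv, hx]
    have : FiniteDimensional k L := FiniteDimensional.of_finrank_pos (by
      have := (Fact.out : ℓ.Prime).pos
      omega)
    have h2 : e x ≠ 0 := by
      intro h
      rw [h, Algebra.norm_zero] at h1
      exact a.ne_zero h1.symm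
    exact ⟨Units.mk0 (e x) h2, Units.ext h1⟩
  · rintro ⟨x, rfl⟩
    refine ⟨e.symm x, ?_⟩
    rw [Algebra.norm_eq_of_algEquiv]
    rfl

/-- The same, for elements. -/
theorem mem_normGroup_iff_of_field [Fact ℓ.Prime] {L : Type*} [Field L] [Algebra k L]
    (hdeg : Module.finrank k L = ℓ) (b : k) (hb : ∀ c : k, c ^ ℓ ≠ b) (y : L)
    (hy : y ^ ℓ = algebraMap k L b) (a : kˣ) :
    a ∈ normGroup ℓ b ↔ ∃ x : L, Algebra.norm k x = a := by
  have hℓ := (Fact.out : ℓ.Prime).ne_zero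
  obtain ⟨e, -⟩ := exists_algEquiv hdeg b hb y hy
  rw [mem_normGroup_iff hℓ]
  constructor
  · rintro ⟨x, hx⟩
    exact ⟨e x, by rw [Algebra.norm_eq_of_algEquiv, hx]⟩
  · rintro ⟨x, hx⟩
    exact ⟨e.symm x, by rw [Algebra.norm_eq_of_algEquiv, hx]⟩

end map

end Groth.Agent.Etbc.H214.NormGroup
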