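import Mathlib.Topology.KrullDimension
import Mathlib.AlgebraicGeometry.Noetherian
import Mathlib.AlgebraicGeometry.Morphisms.ClosedImmersion
import Mathlib.RingTheory.KrullDimension.Basic

/-!
# The dimension of the closure of a point

`dimPt x`: the dimension of the closure of the point `x` of a space of finite dimension, as a natural number.

* `dimPt_le`, `dimPt_lt_of_specializes`;
* `krullDim_add_le`: a bound for the dimension of an ordered set from a strictly monotone function to `ℕ`.
* `topologicalKrullDim_le`: the dimension of a sober space `Z` with an injective continuous map `i` to the space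
  is at most `m` if `dimPt (i z) ≤ m` for all `z`.
* `krullDim_primeSpectrum_add_le`: `dim B + dimPt y ≤ dimPt x` if `g : Spec B → X` is an injective continuous map with
  `x ⤳ g p ⤳ y` for all `p`.
-/

set_option autoImplicit false
universe u

open CategoryTheory AlgebraicGeometry TopologicalSpace Order

namespace Groth.Agent.Etbc.H214.DimFun

section order

variable {α : Type*} [Preorder α]

theorem head_add_length_le (ψ : α → ℕ) (hψ : StrictMono ψ) (l : LTSeries α) :
    ψ l.head + l.length ≤ ψ l.last := by
  have h := LTSeries.head_add_length_le_nat (l.map ψ hψ)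
  simpa using h

/-- A bound for the dimension of an ordered set from a strictly monotone function to `ℕ`. -/
theorem krullDim_add_le (ψ : α → ℕ) (hψ : StrictMono ψ) (A B : ℕ) (hA : ∀ a, A ≤ ψ a)
    (hB : ∀ a, ψ a ≤ B) : krullDim α + A ≤ B := by
  by_cases hα : IsEmpty α
  · rw [krullDim_eq_bot]
    simp
  rw [not_isEmpty_iff] at hα
  have hAB : A ≤ B := (hA hα.some).trans (hB _)
  have h1 : krullDim α ≤ ((B - A : ℕ) : WithBot ℕ∞) := by
    refine iSup_le fun l => ?_
    have h := head_add_length_le ψ hψ l
    have h2 := hA l.head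
    have h3 := hB l.last
    exact_mod_cast (by omega : l.length ≤ B - A)
  calc krullDim α + A ≤ ((B - A : ℕ) : WithBot ℕ∞) + A := by gcongr
    _ = ((B - A + A : ℕ) : WithBot ℕ∞) := by push_cast; rfl
    _ = B := by rw [Nat.sub_add_cancel hAB]

theorem krullDim_le (ψ : α → ℕ) (hψ : StrictMono ψ) (B : ℕ) (hB : ∀ a, ψ a ≤ B) :
    krullDim α ≤ B := by
  have := krullDim_add_le ψ hψ 0 B (fun _ => Nat.zero_le _) hB
  simpa using this

end order

section space

variable {X : Type*} [TopologicalSpace X]

/-- The closure of a point as an irreducible closed subset. -/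
def pt (x : X) : IrreducibleCloseds X := ⟨closure {x}, isIrreducible_singleton.closure, isClosed_closure⟩

theorem pt_le_iff (x y : X) : pt y ≤ pt x ↔ x ⤳ y := by
  rw [specializes_iff_closure_subset]
  rfl

theorem pt_lt [T0Space X] {x y : X} (h : x ⤳ y) (hne : x ≠ y) : pt y < pt x := by
  refine lt_of_le_of_ne ((pt_le_iff x y).2 h) fun heq => hne ?_
  have h2 : y ⤳ x := (pt_le_iff y x).1 heq.symm.le
  exact (h.antisymm h2).eq

/-- The dimension of the closure of a point. -/
noncomputable def dimPt (x : X) : ℕ := (height (pt x)).toNat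

variable {n : ℕ} (hn : topologicalKrullDim X ≤ n)

include hn

theorem height_le (T : IrreducibleCloseds X) : height T ≤ n := by
  have h := (height_le_krullDim T).trans hn
  exact_mod_cast h

theorem coe_dimPt (x : X) : (dimPt x : ℕ∞) = height (pt x) :=
  ENat.natCast_toNat (ne_top_of_le_ne_top (ENat.natCast_ne_top n) (height_le hn _))

theorem dimPt_le (x : X) : dimPt x ≤ n := by
  have h := height_le hn (pt x)
  rw [← coe_dimPt hn] at h
  exact_mod_cast h

theorem dimPt_mono {x y : X} (h : x ⤳ y) : dimPt y ≤ dimPt x := by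
  have h2 : height (pt y) ≤ height (pt x) := height_mono ((pt_le_iff x y).2 h)
  rw [← coe_dimPt hn, ← coe_dimPt hn] at h2
  exact_mod_cast h2

theorem dimPt_lt_of_specializes [T0Space X] {x y : X} (h : x ⤳ y) (hne : x ≠ y) :
    dimPt y < dimPt x := by
  have h2 := height_strictMono (pt_lt h hne)
    (lt_of_le_of_lt (height_le hn _) (ENat.natCast_lt_top n))
  rw [← coe_dimPt hn, ← coe_dimPt hn] at h2
  exact_mod_cast h2

/-- Bound for the dimension of a sober space mapping injectively to `X`. -/
theorem topologicalKrullDim_le [T0Space X] {Z : Type*} [TopologicalSpace Z] [QuasiSober Z]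
    (i : Z → X) (hi : Continuous i) (hinj : Function.Injective i) (m : ℕ) (hm : ∀ z, dimPt (i z) ≤ m) :
    topologicalKrullDim Z ≤ m := by
  have hg : ∀ T : IrreducibleCloseds Z, ∃ z : Z, IsGenericPoint z (T : Set Z) := fun T =>
    QuasiSober.sober T.isIrreducible' T.isClosed'
  choose g hg using hg
  refine krullDim_le (fun T => dimPt (i (g T))) (fun T T' h => ?_) m (fun T => hm _)
  have h1 : g T' ⤳ g T := (hg T').specializes (h.le (hg T).mem)
  refine dimPt_lt_of_specializes hn (h1.map hi) fun heq => ?_
  have h2 := hinj heq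
  have h3 : (T : Set Z) = T' := by rw [← hg T, ← hg T', h2]
  exact h.ne (SetLike.coe_injective h3)

/-- The dimension of a ring `B` with an injective map `Spec B → X` whose image lies between `y` and `x`. -/
theorem ringKrullDim_add_le [T0Space X] {B : Type*} [CommRing B] (g : PrimeSpectrum B → X)
    (hg : Continuous g) (hinj : Function.Injective g) (x y : X) (hx : ∀ p, x ⤳ g p)
    (hy : ∀ p, g p ⤳ y) : ringKrullDim B + dimPt y ≤ dimPt x := by
  unfold ringKrullDim
  rw [← krullDim_orderDual]
  refine krullDim_add_le (α := (PrimeSpectrum B)ᵒᵈ) (fun p => dimPt (g (OrderDual.ofDual p)))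
    (fun p q h => ?_) _ _ (fun p => dimPt_mono hn (hy _)) (fun p => dimPt_mono hn (hx _))
  have h' : OrderDual.ofDual q < OrderDual.ofDual p := h
  have h1 : OrderDual.ofDual q ⤳ OrderDual.ofDual p := (PrimeSpectrum.le_iff_specializes _ _).1 h'.le
  exact dimPt_lt_of_specializes hn (h1.map hg) fun heq => h'.ne (hinj heq)

/-- The same without `y`. -/
theorem ringKrullDim_le [T0Space X] {B : Type*} [CommRing B] (g : PrimeSpectrum B → X)
    (hg : Continuous g) (hinj : Function.Injective g) (x : X) (hx : ∀ p, x ⤳ g p) :
    ringKrullDim B ≤ dimPt x := by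
  unfold ringKrullDim
  rw [← krullDim_orderDual]
  refine krullDim_le (α := (PrimeSpectrum B)ᵒᵈ) (fun p => dimPt (g (OrderDual.ofDual p)))
    (fun p q h => ?_) _ (fun p => dimPt_mono hn (hx _))
  have h' : OrderDual.ofDual q < OrderDual.ofDual p := h
  have h1 : OrderDual.ofDual q ⤳ OrderDual.ofDual p := (PrimeSpectrum.le_iff_specializes _ _).1 h'.le
  exact dimPt_lt_of_specializes hn (h1.map hg) fun heq => h'.ne (hinj heq)

end space

end Groth.Agent.Etbc.H214.DimFun
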