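import Groth.Agent.Etbc.H209.Induct

/-!
# Vanishing of cohomology from a dimension function, when `ℓ` is not invertible

`induct`: `X` Noetherian, `φ : X → ℕ` strictly decreasing under proper specializations, `W = range i` the image of a
closed immersion `i : Z → X` (the locus where `ℓ` is not invertible).  Assume

* `cd_ℓ(κ(x)) ≤ 2 φ(x) + 1`;
* for `y` in the support of `R^q i_{x*} G`, `q ≥ 1`, `G` an `ℓ`-primary torsion sheaf on `Spec κ(x)`: `φ(y) < φ(x)`,
  `q ≤ φ(x)` and, if `y ∉ W`, `φ(y) + q ≤ φ(x)`;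
* for `ℓ`-primary torsion sheaves `F` supported in `W` with `φ ≤ m` on the support, `H^n(X, F) = 0` for `n > m + 1`.

Then for `ℓ`-primary torsion sheaves `F` with `φ < m` on the support, `H^n(X, F) = 0` for `n ≥ 2 m`.
-/

set_option autoImplicit false
universe u

open CategoryTheory CategoryTheory.Limits AlgebraicGeometry Opposite TopologicalSpace

namespace Groth.Agent.Etbc.H214.Induct2

open Groth.Agent.CurvesA Groth.Agent.CurvesA.SubSheafEt Groth.Agent.Etbase.EtSections
  Groth.Agent.EtpbcA.Artin Groth.Agent.CurvesA.Punctual Groth.Agent.EtpbcA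
  Groth.Agent.EtpbcA.SuppFilt Groth.Agent.Etbc.H209 Groth.Agent.Etbc.H209.PrimFilt
  Groth.Agent.Etbc.H211.PrimTors

variable {X : Scheme.{u}}

/-- Vanishing from the kernel and the image of a map. -/
theorem van_of_ker_im {F G : EtCoh.Ab X} (u : F ⟶ G) (n : ℕ)
    (hK : Subsingleton (EtCoh.H X (kernel u) n))
    (hI : Subsingleton (EtCoh.H X (Abelian.image u) n)) : Subsingleton (EtCoh.H X F n) := by
  have w : kernel.ι u ≫ Abelian.factorThruImage u = 0 := by
    rw [← cancel_mono (Abelian.image.ι u), Category.assoc, Abelian.image.fac, kernel.condition,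
      zero_comp]
  let S₁ : ShortComplex (EtCoh.Ab X) := ShortComplex.mk (kernel.ι u) (Abelian.factorThruImage u) w
  have hS₁ : S₁.ShortExact := by
    refine ShortComplex.ShortExact.mk' ?_ (inferInstanceAs (Mono (kernel.ι u)))
      (inferInstanceAs (Epi (Abelian.factorThruImage u)))
    refine ShortComplex.exact_of_f_is_kernel _ ?_
    exact KernelFork.IsLimit.ofι' _ w (fun k hk => by
      refine ⟨kernel.lift u k ?_, kernel.lift_ι _ _ _⟩
      rw [← Abelian.image.fac u, ← Category.assoc, hk, zero_comp])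
  exact CohBasic.van_mid hS₁ n hK hI

section main

variable (ℓ : ℕ) (φ : X → ℕ) {Z : Scheme.{u}} (i : Z ⟶ X) [IsClosedImmersion i]

/-- The hypothesis on the support of the higher direct images of points. -/
def HypB : Prop :=
  ∀ (x : X) (G : EtCoh.Ab (Spec (X.residueField x))), _root_.Dix.IsPrimaryTorsion ℓ G →
    ∀ q : ℕ, ∀ y ∈ EtPBC.supp ((EtCoh.Rpush (X.fromSpecResidueField x) (q + 1)).obj G),
      φ y < φ x ∧ q + 1 ≤ φ x ∧ (y ∉ Set.range i → φ y + (q + 1) ≤ φ x)

/-- The hypothesis on sheaves supported on the locus where `ℓ` is not invertible. -/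
def HypC : Prop :=
  ∀ (m : ℕ) (F : EtCoh.Ab X), _root_.Dix.IsPrimaryTorsion ℓ F → EtPBC.supp F ⊆ Set.range i →
    (∀ x ∈ EtPBC.supp F, φ x ≤ m) → ∀ n, m + 1 < n → Subsingleton (EtCoh.H X F n)

variable (hφ : ∀ x y : X, x ⤳ y → x ≠ y → φ y < φ x)
  (h1 : ∀ x : X, _root_.Dix.CohDimLEAt (Spec (X.residueField x)) ℓ (2 * φ x + 1))
  (hB : HypB ℓ φ i) (hC : HypC ℓ φ i)

include h1 hB hC in
/-- Vanishing for the sheaves `i_{x*} G`. -/
theorem van_push (m : ℕ)
    (ih : ∀ k, k ≤ m → ∀ F : EtCoh.Ab X, _root_.Dix.IsPrimaryTorsion ℓ F →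
      (∀ x ∈ EtPBC.supp F, φ x < k) → ∀ n, 2 * k ≤ n → Subsingleton (EtCoh.H X F n))
    (x : X) (hx : φ x ≤ m) (G : EtCoh.Ab (Spec (X.residueField x)))
    (hG : _root_.Dix.IsPrimaryTorsion ℓ G) [QuasiSeparatedSpace X] (n : ℕ) (hn : 2 * (m + 1) ≤ n) :
    Subsingleton (EtCoh.H X ((EtCoh.push (X.fromSpecResidueField x)).obj G) n) := by
  obtain ⟨n, rfl⟩ : ∃ k, n = k + 1 := ⟨n - 1, by omega⟩
  refine CdEtLeray.H_push_subsingleton_of_reverse _ G n (h1 x G hG _ (by omega)) fun p q hpq => ?_
  let M : EtCoh.Ab X := (EtCoh.Rpush (X.fromSpecResidueField x) (q + 1)).obj G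
  have hM : _root_.Dix.IsPrimaryTorsion ℓ M := isPrimaryTorsion_Rpush ℓ _ G hG (q + 1)
  let u := (EtCoh.pullPushAdj i).unit.app M
  have hsK : EtPBC.supp (kernel u) ⊆ EtPBC.supp M := SuppCons.supp_subset_of_mono (kernel.ι u)
  have hsI : EtPBC.supp (Abelian.image u) ⊆ EtPBC.supp M := fun y hy =>
    SuppClosed.supp_of_epi (Abelian.factorThruImage u) hy
  have hsI' : EtPBC.supp (Abelian.image u) ⊆ Set.range i := fun y hy => by
    have h2 : y ∈ closure (Set.range i) :=
      supp_push_subset i _ (SuppCons.supp_subset_of_mono (Abelian.image.ι u) hy)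
    rwa [IsClosed.closure_eq i.isClosedEmbedding.isClosed_range] at h2
  refine van_of_ker_im u p ?_ ?_
  · refine ih (m - q) (by omega) _ (isPrimaryTorsion_of_mono (kernel.ι u) hM) (fun y hy => ?_) p
      (by omega)
    have h2 := (hB x G hG q y (hsK hy)).2.2 fun h => UnitPt.not_mem_supp_kernel i M h hy
    omega
  · by_cases hq : q + 1 ≤ m
    · refine hC (m - 1) _ (isPrimaryTorsion_of_epi (Abelian.factorThruImage u) hM) hsI'
        (fun y hy => ?_) p (by omega)
      have h2 := (hB x G hG q y (hsI hy)).1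
      omega
    · refine ih 0 (by omega) _ (isPrimaryTorsion_of_epi (Abelian.factorThruImage u) hM)
        (fun y hy => ?_) p (by omega)
      have h2 := (hB x G hG q y (hsI hy)).2.1
      omega

include hφ h1 hB hC in
/-- Vanishing for sheaves with finitely many points of the support where `φ = m`. -/
theorem van_finite (m : ℕ) [QuasiSeparatedSpace X]
    (ih : ∀ k, k ≤ m → ∀ F : EtCoh.Ab X, _root_.Dix.IsPrimaryTorsion ℓ F →
      (∀ x ∈ EtPBC.supp F, φ x < k) → ∀ n, 2 * k ≤ n → Subsingleton (EtCoh.H X F n))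
    (T : Finset X) : ∀ F : EtCoh.Ab X, _root_.Dix.IsPrimaryTorsion ℓ F →
      (∀ x ∈ EtPBC.supp F, φ x < m + 1) → (∀ x ∈ EtPBC.supp F, φ x = m → x ∈ T) →
      ∀ n, 2 * (m + 1) ≤ n → Subsingleton (EtCoh.H X F n) := by
  classical
  induction T using Finset.induction_on with
  | empty =>
    intro F hF hs hT n hn
    refine ih m le_rfl F hF (fun x hx => ?_) n (by omega)
    have h2 := hs x hx
    have h3 : φ x ≠ m := fun h => (Finset.notMem_empty x) (hT x hx h)
    omega
  | insert x T hxT ihT =>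
    intro F hF hs hT n hn
    by_cases hx : x ∈ EtPBC.supp F ∧ φ x = m
    · obtain ⟨hxF, hxm⟩ := hx
      obtain ⟨n, rfl⟩ : ∃ k, n = k + 1 := ⟨n - 1, by omega⟩
      let j := X.fromSpecResidueField x
      let u := (EtCoh.pullPushAdj j).unit.app F
      have hxr : x ∈ Set.range j := by
        rw [X.range_fromSpecResidueField x]
        rfl
      have hG : _root_.Dix.IsPrimaryTorsion ℓ ((EtCoh.pull j).obj F) := isPrimaryTorsion_pull ℓ j F hF
      refine Induct.van_of_ker_coker u n ?_
        (van_push ℓ φ i h1 hB hC m ih x hxm.le _ hG (n + 1) hn) ?_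
      · have hsub : EtPBC.supp (kernel u) ⊆ EtPBC.supp F := SuppCons.supp_subset_of_mono (kernel.ι u)
        refine ihT _ (isPrimaryTorsion_of_mono (kernel.ι u) hF) (fun y hy => hs y (hsub hy))
          (fun y hy hym => ?_) (n + 1) hn
        have h2 := hT y (hsub hy) hym
        rw [Finset.mem_insert] at h2
        refine h2.resolve_left fun h3 => ?_
        subst h3
        exact UnitPt.not_mem_supp_kernel j F hxr hy
      · refine ih m le_rfl _ (isPrimaryTorsion_of_epi (cokernel.π u)
          (isPrimaryTorsion_push ℓ j _ hG)) (fun y hy => ?_) n (by omega)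
        have h2 : y ∈ closure (Set.range j) :=
          supp_push_subset j _ (SuppClosed.supp_of_epi (cokernel.π u) hy)
        rw [X.range_fromSpecResidueField x, ← specializes_iff_mem_closure] at h2
        have h3 : x ≠ y := fun h => UnitPt.not_mem_supp_cokernel j F (y := y) (h ▸ hxr) hy
        rw [← hxm]
        exact hφ x y h2 h3
    · refine ihT F hF hs (fun y hy hym => ?_) n hn
      have h2 := hT y hy hym
      rw [Finset.mem_insert] at h2
      exact h2.resolve_left fun h3 => hx ⟨h3 ▸ hy, h3 ▸ hym⟩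

include hφ h1 hB hC in
theorem induct [IsNoetherian X] (m : ℕ) : ∀ F : EtCoh.Ab X, _root_.Dix.IsPrimaryTorsion ℓ F →
    (∀ x ∈ EtPBC.supp F, φ x < m) → ∀ n, 2 * m ≤ n → Subsingleton (EtCoh.H X F n) := by
  induction m using Nat.strong_induction_on with
  | _ m ih =>
    cases m with
    | zero =>
      intro F _ hs n _
      have h0 : IsZero F := isZero_of_forall F fun x hx => by
        have := hs x hx
        omega
      exact CdEtLeray.H_subsingleton_of_isZero h0 n
    | succ m =>
      intro F hF hs n hn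
      refine van_of_supp_stable' {x | φ x < m + 1} n (fun x y hxy hx => ?_) F hs ?_
      · by_cases h : x = y
        · exact h ▸ hx
        · exact (hφ x y hxy h).trans hx
      · intro Z hZ hZE
        have hfin := Induct.finite_max φ hφ m Z hZ (fun x hx => Nat.lt_succ_iff.1 (hZE hx))
        have hsub := supp_sub F Z
        refine van_finite ℓ φ i hφ h1 hB hC m (fun k hk => ih k (by omega)) hfin.toFinset _
          (isPrimaryTorsion_of_mono (ι (suppData F Z)) hF) (fun x hx => hs x (hsub hx).2)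
          (fun x hx hxm => ?_) n hn
        rw [Set.Finite.mem_toFinset]
        exact ⟨(hsub hx).1, hxm⟩

include hφ h1 hB hC in
/-- The `ℓ`-cohomological dimension is at most `2 n + 1` if `φ ≤ n`. -/
theorem cohDimLEAt [IsNoetherian X] (n : ℕ) (hn : ∀ x, φ x ≤ n) :
    _root_.Dix.CohDimLEAt X ℓ (2 * n + 1) := fun F hF q hq =>
  induct ℓ φ i hφ h1 hB hC (n + 1) F hF (fun x _ => Nat.lt_succ_of_le (hn x)) q (by omega)

end main

end Groth.Agent.Etbc.H214.Induct2
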