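import Groth.Agent.Etbc.H209.PrimFilt
import Groth.Agent.EtpbcA.SuppClosed
import Groth.Agent.Etbc.H214.Induct2
import Groth.Agent.Etbc.H214.DimFun
import Mathlib.Algebra.Field.ULift
import Mathlib.Algebra.Field.ZMod

/-!
# Sheaves supported on the closed fibre at `ℓ` of a scheme over `ℤ`

* `range_of_natCast_eq_zero`: points with residue characteristic `ℓ` lie in the image of `X ×_ℤ 𝔽_ℓ`;
* `hypC`: hypothesis `HypC` of `Induct2`, from the bound `cd_p ≤ dim + 1` for schemes of finite type over fields of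
  characteristic `p`.
-/

set_option autoImplicit false
universe u

open CategoryTheory CategoryTheory.Limits AlgebraicGeometry Opposite TopologicalSpace

namespace Groth.Agent.Etbc.H214.ClosedFib

open Groth.Agent.Etbc.H214.DimFun Groth.Agent.EtpbcA Groth.Agent.EtpbcA.SuppFilt Groth.Agent.CurvesA
  Groth.Agent.CurvesA.SubSheafEt Groth.Agent.CurvesA.Punctual

/-- The statement of S3519. -/
def CdPStatement : Prop :=
  ∀ (k : Type u) [Field k] (p : ℕ) [Fact p.Prime] [CharP k p]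
    (X : Scheme.{u}) (f : X ⟶ Spec (CommRingCat.of k)) [LocallyOfFiniteType f] [QuasiCompact f]
    (n : ℕ) (_ : topologicalKrullDim X ≤ n), Dix.CohDimLEAt X p (n + 1)

theorem ringHom_ext {S : Type*} [Ring S] (g h : ULift.{u} ℤ →+* S) : g = h := by
  ext a
  have ha : a = ((a.down : ℤ) : ULift.{u} ℤ) := by
    apply ULift.down_injective
    simp
  rw [ha, map_intCast, map_intCast]

/-- Reduction modulo `ℓ`. -/
def red (ℓ : ℕ) : ULift.{u} ℤ →+* ULift.{u} (ZMod ℓ) :=
  ((ULift.ringEquiv (R := ZMod ℓ)).symm.toRingHom.comp (Int.castRingHom (ZMod ℓ))).comp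
    (ULift.ringEquiv (R := ℤ)).toRingHom

theorem red_surjective (ℓ : ℕ) : Function.Surjective (red.{u} ℓ) := by
  refine (ULift.ringEquiv (R := ZMod ℓ)).symm.surjective.comp
    ((ZMod.intCast_surjective (n := ℓ)).comp (ULift.ringEquiv (R := ℤ)).surjective)

/-- The closed immersion `Spec 𝔽_ℓ ⟶ Spec ℤ`. -/
noncomputable def spt (ℓ : ℕ) :
    Spec (CommRingCat.of (ULift.{u} (ZMod ℓ))) ⟶ Spec (CommRingCat.of (ULift.{u} ℤ)) :=
  Spec.map (CommRingCat.ofHom (red ℓ))

instance (ℓ : ℕ) : IsClosedImmersion (spt.{u} ℓ) :=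
  IsClosedImmersion.spec_of_surjective _ (red_surjective ℓ)

variable {X : Scheme.{u}} (f : X ⟶ Spec (CommRingCat.of (ULift.{u} ℤ))) (ℓ : ℕ)

/-- The closed fibre. -/
noncomputable abbrev fib : pullback f (spt ℓ) ⟶ X := pullback.fst f (spt ℓ)

theorem range_of_natCast_eq_zero [hℓ : Fact ℓ.Prime] (y : X) (hy : (ℓ : X.residueField y) = 0) :
    y ∈ Set.range (fib f ℓ) := by
  have hc : CharP (X.residueField y) ℓ := (CharP.charP_iff_prime_eq_zero hℓ.out).2 hy
  let ψ : ULift.{u} (ZMod ℓ) →+* X.residueField y :=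
    (ZMod.castHom (dvd_refl ℓ) (X.residueField y)).comp (ULift.ringEquiv (R := ZMod ℓ)).toRingHom
  have hsq : X.fromSpecResidueField y ≫ f = Spec.map (CommRingCat.ofHom ψ) ≫ spt ℓ := by
    obtain ⟨φ, hφ⟩ := Spec.map_surjective (X.fromSpecResidueField y ≫ f)
    have h1 : φ.hom = ψ.comp (red ℓ) := ringHom_ext _ _
    rw [← hφ, spt, ← Spec.map_comp]
    congr 1
    ext1
    exact h1
  let t : Spec (X.residueField y) ⟶ pullback f (spt ℓ) := pullback.lift _ _ hsq
  refine ⟨t (default : Spec (X.residueField y)), ?_⟩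
  rw [← Scheme.Hom.comp_apply, pullback.lift_fst]
  exact X.fromSpecResidueField_apply y _

/-- A sheaf supported in a closed subset of the closed fibre, on which `dimPt ≤ m`, has no cohomology above
`m + 1`. -/
theorem van_of_closed (hC : CdPStatement.{u}) [LocallyOfFiniteType f] [QuasiCompact f] {n : ℕ}
    (hn : topologicalKrullDim X ≤ n) [hℓ : Fact ℓ.Prime] (m : ℕ) (Z : Set X) (hZ : IsClosed Z)
    (hZi : Z ⊆ Set.range (fib f ℓ)) (hZm : ∀ x ∈ Z, dimPt x ≤ m) (F : EtCoh.Ab X)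
    (hF : Dix.IsPrimaryTorsion ℓ F) (hFZ : EtPBC.supp F ⊆ Z) (q : ℕ) (hq : m + 1 < q) :
    Subsingleton (EtCoh.H X F q) := by
  let I := Scheme.IdealSheafData.vanishingIdeal (X := X) ⟨Z, hZ⟩
  have hr : Set.range I.subschemeι = Z := by
    rw [Scheme.IdealSheafData.range_subschemeι, Scheme.IdealSheafData.coe_support_vanishingIdeal]
    rfl
  let W := pullback I.subschemeι (fib f ℓ)
  let k : W ⟶ X := pullback.fst I.subschemeι (fib f ℓ) ≫ I.subschemeι
  have hk : IsClosedImmersion k := inferInstance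
  have hrk : Set.range k = Z := by
    apply Set.Subset.antisymm
    · rintro _ ⟨w, rfl⟩
      rw [← hr]
      exact ⟨pullback.fst I.subschemeι (fib f ℓ) w, (Scheme.Hom.comp_apply _ _ _).symm⟩
    · intro z hz
      obtain ⟨a, ha⟩ := hr.ge hz
      obtain ⟨b, hb⟩ := hZi hz
      obtain ⟨w, hw, -⟩ := Scheme.Pullback.exists_preimage_pullback a b (ha.trans hb.symm)
      refine ⟨w, ?_⟩
      rw [← ha, ← hw]
      exact Scheme.Hom.comp_apply _ _ _
  let g : W ⟶ Spec (CommRingCat.of (ULift.{u} (ZMod ℓ))) :=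
    pullback.snd I.subschemeι (fib f ℓ) ≫ pullback.snd f (spt ℓ)
  have hchar : CharP (ULift.{u} (ZMod ℓ)) ℓ := inferInstance
  have hdim : topologicalKrullDim W ≤ m :=
    topologicalKrullDim_le hn k k.continuous k.isClosedEmbedding.injective m fun w => hZm _ (hrk.le ⟨w, rfl⟩)
  have key := hC (ULift.{u} (ZMod ℓ)) ℓ W g m hdim
  refine SuppClosed.van_of_supp_closed k F (by rw [hrk]; exact hFZ) q (by omega) ?_
  exact key _ (H211.PrimTors.isPrimaryTorsion_pull ℓ _ _ hF) q hq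

/-- The hypothesis `HypC` of `Induct2`. -/
theorem hypC (hC : CdPStatement.{u}) [LocallyOfFiniteType f] [QuasiCompact f] [IsNoetherian X] {n : ℕ}
    (hn : topologicalKrullDim X ≤ n) [hℓ : Fact ℓ.Prime] :
    Induct2.HypC ℓ (dimPt (X := X)) (fib f ℓ) := by
  intro m F hF hsupp hm q hq
  refine H209.PrimFilt.van_of_supp_stable' {x : X | x ∈ Set.range (fib f ℓ) ∧ dimPt x ≤ m} q
    (fun x y hxy hx => ⟨?_, (dimPt_mono hn hxy).trans hx.2⟩) F (fun x hx => ⟨hsupp hx, hm x hx⟩) ?_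
  · exact hxy.mem_closed (fib f ℓ).isClosedEmbedding.isClosed_range hx.1
  · intro Z hZ hZE
    refine van_of_closed f ℓ hC hn m Z hZ (fun z hz => (hZE hz).1) (fun z hz => (hZE hz).2) _ ?_ ?_ q hq
    · exact H209.PrimFilt.isPrimaryTorsion_of_mono (ι (suppData F Z)) hF
    · intro x hx
      exact (supp_sub F _ hx).1

end Groth.Agent.Etbc.H214.ClosedFib
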