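import Groth.Agent.Etbc.H208.CdTrdeg
import Groth.Agent.Etbc.H201.Serre
import Groth.Agent.Etbc.H236.QFMain
import Groth.Agent.Etbc.H202.FieldDev
import Groth.Agent.S0103

/-!
# Cohomological dimension of fields of finite transcendence degree over the prime field

* `cd_charP_self`: `cd_p(K) ≤ 1` for fields of characteristic `p`;
* `cd_charP`: `cd_ℓ(K) ≤ trdeg(K/𝔽_p) + 1` for every prime `ℓ`;
* `cd_charZero`: `cd_ℓ(K) ≤ trdeg(K/ℚ) + 2` if `ℓ ≠ 2` or `K` is not orderable, from `cd_ℓ ≤ 2` for number fields.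
-/

set_option autoImplicit false
universe u

open CategoryTheory AlgebraicGeometry Algebra

namespace Groth.Agent.Etbc.H214.ResCd

/-- `cd_ℓ(K) ≤ 2` for all (non-orderable if `ℓ = 2`) number fields `K`. -/
def NFStatement (ℓ : ℕ) : Prop :=
  ∀ (K : Type u) [Field K] [CharZero K] [Module.Finite ℚ K],
    (ℓ ≠ 2 ∨ ¬ ∃ _ : LinearOrder K, IsStrictOrderedRing K) →
      Dix.CohDimLEAt (Spec (CommRingCat.of K)) ℓ 2

/-- `cd_p(K) ≤ 1` for fields of characteristic `p`. -/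
theorem cd_charP_self (K : Type u) [Field K] (p : ℕ) [hp : Fact p.Prime] [CharP K p] :
    Dix.CohDimLEAt (Spec (CommRingCat.of K)) p 1 := by
  rw [H202.FieldDev.cohDimLEAt_iff]
  intro q hq E _ _ _ _
  have h1 : CharP E p := charP_of_injective_algebraMap (algebraMap K E).injective p
  let e : Γ(Spec (CommRingCat.of E), ⊤) ≃+* E :=
    (Scheme.ΓSpecIso (CommRingCat.of E)).commRingCatIsoToRingEquiv
  have h2 : CharP Γ(Spec (CommRingCat.of E), ⊤) p :=
    charP_of_injective_ringHom (f := e.symm.toRingHom) e.symm.injective p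
  exact Groth.Agent.S0103.result (Spec (CommRingCat.of E)) p q (by omega)

theorem cd_charP_aux {ℓ : ℕ} (hℓ : ℓ.Prime) (K : Type u) [Field K] (p : ℕ) [hp : Fact p.Prime]
    [Algebra (ZMod p) K] (k : Type u) [Field k] [Finite k] [Algebra (ZMod p) k] [Algebra k K]
    [IsScalarTower (ZMod p) k K] (d : ℕ) (hd : Algebra.trdeg (ZMod p) K ≤ d) :
    Dix.CohDimLEAt (Spec (CommRingCat.of K)) ℓ (1 + d) := by
  have h1 : Dix.CohDimLEAt (Spec (CommRingCat.of k)) ℓ 1 :=
    H236.IntCore.cohDimLEAt_of_cohDimLE hℓ.ne_zero 1 (H236.QFMain.cohDimLE_one_of_finite k)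
  refine H208.CdTrdeg.cohDimLEAt_of_trdeg_le hℓ.pos d k K 1 h1 ?_
  have h2 := trdeg_add_eq (ZMod p) k (A := K)
  have h3 : Algebra.trdeg (ZMod p) k = 0 := by
    have : Module.Finite (ZMod p) k := inferInstance
    have : Algebra.IsAlgebraic (ZMod p) k := inferInstance
    exact trdeg_eq_zero_iff.2 this
  rw [h3, zero_add] at h2
  rwa [h2]

/-- `cd_ℓ(K) ≤ trdeg(K/𝔽_p) + 1`. -/
theorem cd_charP {ℓ : ℕ} (hℓ : ℓ.Prime) (K : Type u) [Field K] (p : ℕ) [hp : Fact p.Prime] [CharP K p]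
    [Algebra (ZMod p) K] (d : ℕ) (hd : Algebra.trdeg (ZMod p) K ≤ d) :
    Dix.CohDimLEAt (Spec (CommRingCat.of K)) ℓ (1 + d) := by
  let A : Algebra (ULift.{u} (ZMod p)) K :=
    ((algebraMap (ZMod p) K).comp (ULift.ringEquiv (R := ZMod p)).toRingHom).toAlgebra
  have hsc : @IsScalarTower (ZMod p) (ULift.{u} (ZMod p)) K _ A.toSMul _ :=
    @IsScalarTower.of_algebraMap_eq (ZMod p) (ULift.{u} (ZMod p)) K _ _ _ _ A _ fun x => rfl
  exact @cd_charP_aux ℓ hℓ K _ p _ _ (ULift.{u} (ZMod p)) _ _ _ A hsc d hd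

open IntermediateField in
/-- `cd_ℓ(K) ≤ trdeg(K/ℚ) + 2`. -/
theorem cd_charZero {ℓ : ℕ} (hℓ : ℓ.Prime) (hNF : NFStatement.{u} ℓ) (K : Type u) [Field K] [CharZero K]
    (d : ℕ) (hd : Algebra.trdeg ℚ K ≤ d)
    (hord : ℓ ≠ 2 ∨ ¬ ∃ _ : LinearOrder K, IsStrictOrderedRing K) :
    Dix.CohDimLEAt (Spec (CommRingCat.of K)) ℓ (2 + d) := by
  let Ω := AlgebraicClosure K
  obtain ⟨i, hi⟩ := IsAlgClosed.exists_eq_mul_self (-1 : Ω)
  have hint : ∀ (F : Type u) [Field F] [Algebra F Ω], IsIntegral F i := by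
    intro F _ _
    refine ⟨Polynomial.X ^ 2 + Polynomial.C 1, Polynomial.monic_X_pow_add_C _ two_ne_zero, ?_⟩
    rw [Polynomial.eval₂_add, Polynomial.eval₂_pow, Polynomial.eval₂_X, Polynomial.eval₂_C, map_one,
      pow_two, ← hi, neg_add_cancel]
  have hint0 : IsIntegral ℚ i := by
    refine ⟨Polynomial.X ^ 2 + Polynomial.C 1, Polynomial.monic_X_pow_add_C _ two_ne_zero, ?_⟩
    rw [Polynomial.eval₂_add, Polynomial.eval₂_pow, Polynomial.eval₂_X, Polynomial.eval₂_C, map_one,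
      pow_two, ← hi, neg_add_cancel]
  let N : IntermediateField ℚ Ω := ℚ⟮i⟯
  let K' : IntermediateField K Ω := K⟮i⟯
  have hNfin : Module.Finite ℚ N := adjoin.finiteDimensional hint0
  have hKfin : Module.Finite K K' := adjoin.finiteDimensional (hint K)
  have hNord : ¬ ∃ _ : LinearOrder N, IsStrictOrderedRing N := by
    intro ho
    apply H205.Ordering.not_isSumSq_neg_one ho
    have hmem : i ∈ N := mem_adjoin_simple_self ℚ i
    have : (-1 : N) = ⟨i, hmem⟩ * ⟨i, hmem⟩ := Subtype.ext hi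
    rw [this]
    exact IsSumSq.mul_self _
  have hN := hNF N (Or.inr hNord)
  have hle : N ≤ K'.restrictScalars ℚ := by
    rw [adjoin_simple_le_iff]
    exact mem_adjoin_simple_self K i
  let _ : Algebra N K' := (inclusion hle).toRingHom.toAlgebra
  have hsc1 : IsScalarTower ℚ N K' := IsScalarTower.of_algebraMap_eq' (Subsingleton.elim _ _)
  have hsc2 : IsScalarTower ℚ K K' := IsScalarTower.of_algebraMap_eq' (Subsingleton.elim _ _)
  have htr1 := trdeg_add_eq ℚ N (A := K')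
  have htr2 := trdeg_add_eq ℚ K (A := K')
  have htr3 : Algebra.trdeg K K' = 0 := trdeg_eq_zero_iff.2 inferInstance
  have htr4 : Algebra.trdeg N K' ≤ d := by
    rw [htr3, add_zero] at htr2
    refine le_trans ?_ hd
    rw [htr2, ← htr1]
    exact self_le_add_left _ _
  have h2 : Dix.CohDimLEAt (Spec (CommRingCat.of K')) ℓ (2 + d) :=
    H208.CdTrdeg.cohDimLEAt_of_trdeg_le hℓ.pos d N K' 2 hN htr4
  exact H201.Serre.serre_finite K K' ℓ hℓ (Nat.cast_ne_zero.2 hℓ.ne_zero) _ h2 hord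

end Groth.Agent.Etbc.H214.ResCd
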