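import Groth.Agent.CalgC.DimFT
import Mathlib.RingTheory.FiniteStability
import Mathlib.RingTheory.DedekindDomain.Basic
import Mathlib.RingTheory.PrincipalIdealDomain
import Mathlib.Tactic.Linarith
import Mathlib.RingTheory.Localization.BaseChange
import Mathlib.RingTheory.KrullDimension.Field
import Mathlib.RingTheory.Ideal.Height
import Mathlib.RingTheory.IntegralClosure.IsIntegralClosure.Basic
import Mathlib.Algebra.CharP.Algebra
import Mathlib.Algebra.Field.ZMod
import Mathlib.Algebra.Algebra.ZMod

/-!
# Dimension of finitely generated domains over the integers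

For a finitely generated domain `B` over `ℤ` with fraction field `K`:
* `exists_trdeg_charZero`: if `K` has characteristic zero then `trdeg_ℚ K + 1 ≤ dim B`;
* `exists_trdeg_charP`: if `K` has characteristic `p` then `trdeg_{𝔽_p} K ≤ dim B`.
-/

set_option autoImplicit false
universe u

open Algebra
open scoped TensorProduct nonZeroDivisors

namespace Groth.Agent.Etbc.H214.ZDim

/-- A domain which is not a field has positive dimension. -/
theorem one_le_ringKrullDim (D : Type*) [CommRing D] [IsDomain D] (h : ¬ IsField D) :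
    1 ≤ ringKrullDim D := by
  obtain ⟨m, hm⟩ := Ideal.exists_maximal D
  have hne : m ≠ ⊥ := Ring.ne_bot_of_isMaximal_of_not_isField hm h
  have hlt : (⟨⊥, Ideal.isPrime_bot⟩ : PrimeSpectrum D) < ⟨m, hm.isPrime⟩ :=
    lt_of_le_of_ne (bot_le (a := m)) fun heq => hne (congrArg PrimeSpectrum.asIdeal heq).symm
  let l : LTSeries (PrimeSpectrum D) :=
    { length := 1
      toFun := ![⟨⊥, Ideal.isPrime_bot⟩, ⟨m, hm.isPrime⟩]
      step := fun i => by
        fin_cases i
        exact hlt }
  exact Order.LTSeries.length_le_krullDim l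

theorem isJacobsonRing_int : IsJacobsonRing ℤ := by
  rw [isJacobsonRing_iff_prime_eq]
  intro P hP
  by_cases h : P = ⊥
  · subst h
    rw [eq_bot_iff]
    intro x hx
    rw [Ideal.mem_jacobson_bot] at hx
    have h1 := hx x
    rw [Int.isUnit_iff] at h1
    rw [Ideal.mem_bot]
    rcases h1 with h1 | h1
    · have : x * x = 0 := by linarith
      exact mul_self_eq_zero.mp this
    · nlinarith [mul_self_nonneg x]
  · have : P.IsMaximal := hP.isMaximal h
    exact Ideal.jacobson_eq_self_of_isMaximal

/-- A finitely generated domain over `ℤ` of characteristic zero is not a field. -/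
theorem not_isField (D : Type*) [CommRing D] [IsDomain D] [Algebra.FiniteType ℤ D]
    (hinj : Function.Injective (fun n : ℤ => (n : D))) : ¬ IsField D := by
  intro h
  let _ : Field D := h.toField
  have := isJacobsonRing_int
  have : Module.Finite ℤ D := finite_of_finite_type_of_isJacobsonRing ℤ D
  exact Int.not_isField (isField_of_isIntegral_of_isField hinj h)

section

attribute [local instance] Algebra.TensorProduct.rightAlgebra

variable (B : Type u) [CommRing B] [IsDomain B] [Algebra.FiniteType ℤ B] (K : Type u) [Field K]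
  [Algebra B K] [IsFractionRing B K]

theorem exists_trdeg_charZero [CharZero K] [Algebra ℚ K] :
    ∃ d : ℕ, Algebra.trdeg ℚ K = d ∧ (d + 1 : WithBot ℕ∞) ≤ ringKrullDim B := by
  have hBK : Function.Injective (algebraMap B K) := IsFractionRing.injective B K
  have hZB : Function.Injective (algebraMap ℤ B) := by
    have h : Function.Injective ((algebraMap B K).comp (algebraMap ℤ B)) := by
      rw [Subsingleton.elim ((algebraMap B K).comp (algebraMap ℤ B)) (Int.castRingHom K)]
      exact Int.cast_injective
    exact Function.Injective.of_comp (f := algebraMap B K) (by rwa [← RingHom.coe_comp])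
  let BQ := ℚ ⊗[ℤ] B
  let M : Submonoid B := Algebra.algebraMapSubmonoid B ℤ⁰
  have hM : M ≤ B⁰ := by
    rintro _ ⟨n, hn, rfl⟩
    have hn0 : n ≠ 0 := mem_nonZeroDivisors_iff_ne_zero.1 hn
    rw [mem_nonZeroDivisors_iff_ne_zero]
    exact fun h => hn0 (hZB (by rw [h, map_zero]))
  have hloc : IsLocalization M BQ := inferInstance
  have hdom : IsDomain BQ := IsLocalization.isDomain_of_le_nonZeroDivisors BQ hM
  have hBBQ : Function.Injective (algebraMap B BQ) := IsLocalization.injective BQ hM
  obtain ⟨d, -, h2, h3⟩ := Groth.Agent.CalgC.DimFT.exists_dim ℚ BQ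
  refine ⟨d, ?_, ?_⟩
  · have : FaithfulSMul ℤ B := (faithfulSMul_iff_algebraMap_injective _ _).2 hZB
    have : FaithfulSMul B K := (faithfulSMul_iff_algebraMap_injective _ _).2 hBK
    have : FaithfulSMul B BQ := (faithfulSMul_iff_algebraMap_injective _ _).2 hBBQ
    have : FaithfulSMul ℚ K := (faithfulSMul_iff_algebraMap_injective _ _).2 (algebraMap ℚ K).injective
    have : FaithfulSMul ℚ BQ := (faithfulSMul_iff_algebraMap_injective _ _).2 (algebraMap ℚ BQ).injective
    have a1 : Algebra.trdeg B K = 0 := by
      have := IsLocalization.isAlgebraic K B⁰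
      exact trdeg_eq_zero
    have a2 : Algebra.trdeg B BQ = 0 := by
      have := IsLocalization.isAlgebraic BQ M
      exact trdeg_eq_zero
    have a3 : Algebra.trdeg ℤ ℚ = 0 := by
      have := IsLocalization.isAlgebraic ℚ ℤ⁰
      exact trdeg_eq_zero
    have b1 := trdeg_add_eq ℤ B (A := K)
    have b2 := trdeg_add_eq ℤ B (A := BQ)
    have b3 := lift_trdeg_add_eq ℤ ℚ K
    have b4 := lift_trdeg_add_eq ℤ ℚ BQ
    rw [a1, add_zero] at b1
    rw [a2, add_zero] at b2
    rw [a3, Cardinal.lift_zero, zero_add, Cardinal.lift_uzero, Cardinal.lift_uzero] at b3 b4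
    rw [b3, ← b1, b2, ← b4, h2]
  · obtain ⟨m, hm⟩ := Ideal.exists_maximal BQ
    let q : Ideal B := m.under B
    have hq : q.height = d := by rw [IsLocalization.height_under M m, h3 m hm]
    have hinj : Function.Injective (fun n : ℤ => (n : B ⧸ q)) := by
      change Function.Injective (Int.castRingHom (B ⧸ q))
      rw [injective_iff_map_eq_zero]
      intro n hn
      by_contra hne
      have h0 : (Int.castRingHom (B ⧸ q)) n = Ideal.Quotient.mk q (algebraMap ℤ B n) := by simp
      rw [h0, Ideal.Quotient.eq_zero_iff_mem] at hn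
      have hu : IsUnit (algebraMap B BQ (algebraMap ℤ B n)) :=
        IsLocalization.map_units BQ (⟨algebraMap ℤ B n, n, mem_nonZeroDivisors_of_ne_zero hne, rfl⟩ : M)
      exact hm.ne_top (Ideal.eq_top_of_isUnit_mem _ hn hu)
    have hft : @Algebra.FiniteType ℤ (B ⧸ q) _ _ (Ring.toIntAlgebra _) :=
      Algebra.FiniteType.of_surjective (Ideal.Quotient.mk q).toIntAlgHom Ideal.Quotient.mk_surjective
    have h5 := one_le_ringKrullDim (B ⧸ q) (not_isField _ hinj)
    have h6 := Groth.Agent.CalgC.DimFT.height_add_ringKrullDim_quotient_le q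
    rw [hq] at h6
    calc (d + 1 : WithBot ℕ∞) ≤ ((d : ℕ∞) : WithBot ℕ∞) + ringKrullDim (B ⧸ q) := by
          gcongr
          exact le_rfl
      _ ≤ _ := h6

theorem exists_trdeg_charP (p : ℕ) [Fact p.Prime] [CharP K p] [Algebra (ZMod p) K] :
    ∃ d : ℕ, Algebra.trdeg (ZMod p) K = d ∧ (d : WithBot ℕ∞) ≤ ringKrullDim B := by
  have hBK : Function.Injective (algebraMap B K) := IsFractionRing.injective B K
  have : CharP B p := (algebraMap B K).charP hBK p
  let _ : Algebra (ZMod p) B := ZMod.algebra B p
  have : IsScalarTower (ZMod p) B K := IsScalarTower.of_algebraMap_eq' (Subsingleton.elim _ _)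
  have : IsScalarTower ℤ (ZMod p) B := IsScalarTower.of_algebraMap_eq' (Subsingleton.elim _ _)
  have : Algebra.FiniteType (ZMod p) B := Algebra.FiniteType.of_restrictScalars_finiteType ℤ (ZMod p) B
  obtain ⟨d, h1, h2, -⟩ := Groth.Agent.CalgC.DimFT.exists_dim (ZMod p) B
  refine ⟨d, ?_, h1.ge⟩
  have : FaithfulSMul B K := (faithfulSMul_iff_algebraMap_injective _ _).2 hBK
  have : FaithfulSMul (ZMod p) B := (faithfulSMul_iff_algebraMap_injective _ _).2 (algebraMap (ZMod p) B).injective
  have a1 : Algebra.trdeg B K = 0 := by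
    have := IsLocalization.isAlgebraic K B⁰
    exact trdeg_eq_zero
  rw [← trdeg_add_eq (ZMod p) B (A := K), a1, h2, add_zero]

end

end Groth.Agent.Etbc.H214.ZDim
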