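import Groth.Agent.Etbc.H214.DimFun
import Groth.Agent.Etbc.H214.ZDim
import Groth.Agent.Smoothlim.FTZ
import Mathlib.AlgebraicGeometry.ResidueField
import Mathlib.AlgebraicGeometry.Stalk

/-!
# Dimension of the closure of a point of a scheme of finite type over the integers

* `isFractionRing_quot`: for `U` an affine open containing `x` the residue field `κ(x)` is the fraction field of
  the quotient of `Γ(X, U)` by the ideal of functions vanishing at `x`;
* `trdeg_charZero`: `trdeg_ℚ κ(x) + 1 ≤ dimPt x` for `X` locally of finite type over `ℤ` and finite dimensional;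
* `trdeg_charP`: `trdeg_{𝔽_p} κ(x) ≤ dimPt x`.
-/

set_option autoImplicit false
universe u

open CategoryTheory AlgebraicGeometry TopologicalSpace Limits

namespace Groth.Agent.Etbc.H214.ZPoint

open Groth.Agent.Etbc.H214.DimFun

variable {X : Scheme.{u}}

section

variable (U : X.Opens) (x : X) (hx : x ∈ U)

/-- The evaluation `Γ(X, U) → κ(x)`. -/
noncomputable def evU : Γ(X, U) →+* X.residueField x := (X.presheaf.germ U x hx ≫ X.residue x).hom

/-- The ring `Γ(X, U)` modulo the functions vanishing at `x`. -/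
abbrev Quot : Type u := Γ(X, U) ⧸ RingHom.ker (evU U x hx)

noncomputable instance : Algebra (Quot U x hx) (X.residueField x) :=
  (Ideal.Quotient.lift (RingHom.ker (evU U x hx)) (evU U x hx) (fun _ ha => RingHom.mem_ker.mp ha)).toAlgebra

theorem algebraMap_mk (a : Γ(X, U)) :
    algebraMap (Quot U x hx) (X.residueField x) (Ideal.Quotient.mk _ a) = evU U x hx a := rfl

theorem algebraMap_injective : Function.Injective (algebraMap (Quot U x hx) (X.residueField x)) :=
  RingHom.kerLift_injective _

instance : (RingHom.ker (evU U x hx)).IsPrime := RingHom.ker_isPrime _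

instance : FaithfulSMul (Quot U x hx) (X.residueField x) :=
  (faithfulSMul_iff_algebraMap_injective _ _).2 (algebraMap_injective U x hx)

variable {U}

theorem isFractionRing_quot (hU : IsAffineOpen U) :
    IsFractionRing (Quot U x hx) (X.residueField x) := by
  let _ : Algebra Γ(X, U) (X.presheaf.stalk x) := (X.presheaf.germ U x hx).hom.toAlgebra
  have hloc : IsLocalization.AtPrime (X.presheaf.stalk x) (hU.primeIdealOf ⟨x, hx⟩).asIdeal :=
    hU.isLocalization_stalk ⟨x, hx⟩
  refine IsFractionRing.of_field _ _ ?_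
  intro z
  obtain ⟨z, rfl⟩ := X.residue_surjective x z
  obtain ⟨⟨a, s⟩, has⟩ := IsLocalization.surj (hU.primeIdealOf ⟨x, hx⟩).asIdeal.primeCompl z
  refine ⟨Ideal.Quotient.mk _ a, Ideal.Quotient.mk _ s.1, ?_⟩
  rw [algebraMap_mk, algebraMap_mk]
  have hs : IsUnit (evU U x hx s.1) := by
    have h1 : IsUnit (algebraMap Γ(X, U) (X.presheaf.stalk x) s.1) := IsLocalization.map_units _ s
    exact h1.map (X.residue x).hom
  rw [eq_div_iff hs.ne_zero]
  have := congrArg (X.residue x).hom has
  rw [map_mul] at this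
  exact this

theorem ker_evU (hU : IsAffineOpen U) :
    RingHom.ker (evU U x hx) = (hU.primeIdealOf ⟨x, hx⟩).asIdeal := by
  let _ : Algebra Γ(X, U) (X.presheaf.stalk x) := (X.presheaf.germ U x hx).hom.toAlgebra
  have hloc : IsLocalization.AtPrime (X.presheaf.stalk x) (hU.primeIdealOf ⟨x, hx⟩).asIdeal :=
    hU.isLocalization_stalk ⟨x, hx⟩
  ext a
  have h1 := IsLocalization.AtPrime.isUnit_to_map_iff (X.presheaf.stalk x)
    (hU.primeIdealOf ⟨x, hx⟩).asIdeal a
  have h2 : evU U x hx a = 0 ↔
      algebraMap Γ(X, U) (X.presheaf.stalk x) a ∈ IsLocalRing.maximalIdeal (X.presheaf.stalk x) :=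
    IsLocalRing.residue_eq_zero_iff _
  rw [RingHom.mem_ker, h2, IsLocalRing.mem_maximalIdeal, mem_nonunits_iff, h1]
  exact not_not

/-- The dimension of `Γ(X, U)` modulo the functions vanishing at `x` is at most that of the closure of `x`. -/
theorem ringKrullDim_quot_le {n : ℕ} (hn : topologicalKrullDim X ≤ n) (hU : IsAffineOpen U) :
    ringKrullDim (Quot U x hx) ≤ dimPt x := by
  let q : Spec (CommRingCat.of (Quot U x hx)) ⟶ Spec Γ(X, U) :=
    Spec.map (CommRingCat.ofHom (Ideal.Quotient.mk (RingHom.ker (evU U x hx))))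
  have hq : Function.Injective q :=
    PrimeSpectrum.comap_injective_of_surjective _ Ideal.Quotient.mk_surjective
  refine ringKrullDim_le hn (fun p => hU.fromSpec (q p))
    (hU.fromSpec.continuous.comp q.continuous) ?_ x fun p => ?_
  · exact hU.fromSpec.isOpenEmbedding.injective.comp hq
  · let p₀ : PrimeSpectrum (Quot U x hx) := ⟨⊥, Ideal.isPrime_bot⟩
    have h1 : p₀ ⤳ p := (PrimeSpectrum.le_iff_specializes _ _).1 (bot_le (a := p.asIdeal))
    have h2 : hU.fromSpec (q p₀) = x := by
      have h3 : q p₀ = hU.primeIdealOf ⟨x, hx⟩ := by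
        refine PrimeSpectrum.ext ?_
        rw [← ker_evU x hx hU]
        exact Ideal.mk_ker
      rw [h3, hU.fromSpec_primeIdealOf]
    have h4 : hU.fromSpec (q p₀) ⤳ hU.fromSpec (q p) :=
      h1.map (hU.fromSpec.continuous.comp q.continuous)
    exact (specializes_of_eq h2.symm).trans h4

end

section

variable (f : X ⟶ Spec (CommRingCat.of (ULift.{u} ℤ))) [LocallyOfFiniteType f] {n : ℕ}
  (hn : topologicalKrullDim X ≤ n) (x : X)

include f in
theorem finiteType_quot (U : X.Opens) (hU : IsAffineOpen U) (hx : x ∈ U) :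
    @Algebra.FiniteType ℤ (Quot U x hx) _ _ (Ring.toIntAlgebra _) := by
  have h1 : LocallyOfFiniteType (Limits.IsTerminal.from specULiftZIsTerminal X) := by
    rw [specULiftZIsTerminal.hom_ext (Limits.IsTerminal.from specULiftZIsTerminal X) f]
    infer_instance
  have h2 := Groth.Agent.Smoothlim.FTZ.finiteType_Γ hU
  exact Algebra.FiniteType.of_surjective
    (Ideal.Quotient.mk (RingHom.ker (evU U x hx))).toIntAlgHom Ideal.Quotient.mk_surjective

include f hn

theorem trdeg_charZero [CharZero (X.residueField x)] [Algebra ℚ (X.residueField x)] :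
    ∃ d : ℕ, Algebra.trdeg ℚ (X.residueField x) = d ∧ d + 1 ≤ dimPt x := by
  obtain ⟨U, hU, hx, -⟩ := exists_isAffineOpen_mem_and_subset (X := X) (x := x) (U := ⊤) trivial
  have h1 := finiteType_quot f x U hU hx
  have h2 := isFractionRing_quot x hx hU
  obtain ⟨d, hd, hd'⟩ := ZDim.exists_trdeg_charZero (Quot U x hx) (X.residueField x)
  refine ⟨d, hd, ?_⟩
  have h3 := hd'.trans (ringKrullDim_quot_le x hx hn hU)
  exact_mod_cast h3

theorem trdeg_charP (p : ℕ) [Fact p.Prime] [CharP (X.residueField x) p]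
    [Algebra (ZMod p) (X.residueField x)] :
    ∃ d : ℕ, Algebra.trdeg (ZMod p) (X.residueField x) = d ∧ d ≤ dimPt x := by
  obtain ⟨U, hU, hx, -⟩ := exists_isAffineOpen_mem_and_subset (X := X) (x := x) (U := ⊤) trivial
  have h1 := finiteType_quot f x U hU hx
  have h2 := isFractionRing_quot x hx hU
  obtain ⟨d, hd, hd'⟩ := ZDim.exists_trdeg_charP (Quot U x hx) (X.residueField x) p
  refine ⟨d, hd, ?_⟩
  have h3 := hd'.trans (ringKrullDim_quot_le x hx hn hU)
  exact_mod_cast h3

end

end Groth.Agent.Etbc.H214.ZPoint
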